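import Mathlib.CategoryTheory.Abelian.Indization
import Mathlib.CategoryTheory.Abelian.Refinements
import Mathlib.CategoryTheory.Subobject.ArtinianObject
import Mathlib.CategoryTheory.Subobject.Limits
import Mathlib.CategoryTheory.Limits.Types.Filtered
import Mathlib.CategoryTheory.Preadditive.AdditiveFunctor
import Mathlib.CategoryTheory.Limits.Preserves.Shapes.Kernels
import Mathlib.CategoryTheory.Limits.Preserves.Shapes.Pullbacks
import Mathlib.Algebra.Algebra.Rat

/-!
# Representable test objects in `Ind C` for an abelian category `C`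
-/

open CategoryTheory Limits Opposite

universe v

namespace Groth.Agent.IndCofH28

variable {C : Type v} [SmallCategory C] [Abelian C]

local notation "Y" => (Ind.yoneda (C := C))

/-- Maps out of `A` are determined on representables. -/
lemma hom_ext {A B : Ind C} {g h : A ⟶ B} (hgh : ∀ (X : C) (a : (Y).obj X ⟶ A), a ≫ g = a ≫ h) : g = h := by
  rw [← cancel_epi A.colimitPresentationCompYoneda.hom]
  refine colimit.hom_ext fun j => ?_
  simpa only [Category.assoc] using
    hgh _ (colimit.ι (A.presentation.F ⋙ Y) j ≫ A.colimitPresentationCompYoneda.hom)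

/-- A map of representables vanishing in a filtered colimit vanishes at a later stage. -/
lemma exists_map_eq {I : Type v} [SmallCategory I] [IsFiltered I] (G : I ⥤ C) {i : I} {X : C}
    (g h : X ⟶ G.obj i) (e : (Y).map g ≫ colimit.ι (G ⋙ Y) i = (Y).map h ≫ colimit.ι (G ⋙ Y) i) :
    ∃ (j : I) (f : i ⟶ j), g ≫ G.map f = h ≫ G.map f := by
  let ev := Ind.inclusion C ⋙ (evaluation Cᵒᵖ (Type v)).obj (op X)
  have hc : IsColimit (ev.mapCocone (colimit.cocone (G ⋙ Y))) :=
    isColimitOfPreserves ev (colimit.isColimit _)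
  let θ := Ind.yonedaCompInclusion (C := C)
  let el : ∀ {i : I}, (X ⟶ G.obj i) → ((G ⋙ Y) ⋙ ev).obj i := fun {i} g => (θ.inv.app (G.obj i)).app (op X) g
  have hel : ∀ {i j : I} (f : i ⟶ j) (g : X ⟶ G.obj i), ((G ⋙ Y) ⋙ ev).map f (el g) = el (g ≫ G.map f) :=
    fun {i j} f g => (ConcreteCategory.congr_hom (NatTrans.congr_app (θ.inv.naturality (G.map f)) (op X)) g).symm
  have helι : ∀ {i : I} (g : X ⟶ G.obj i), (ev.mapCocone (colimit.cocone (G ⋙ Y))).ι.app i (el g) =
      ev.map ((Y).map g ≫ colimit.ι (G ⋙ Y) i) ((θ.inv.app X).app (op X) (𝟙 X)) := by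
    intro i g
    have h2 : el g = ev.map ((Y).map g) ((θ.inv.app X).app (op X) (𝟙 X)) := by
      refine Eq.trans ?_ (ConcreteCategory.congr_hom (NatTrans.congr_app (θ.inv.naturality g) (op X)) (𝟙 X))
      show el g = (θ.inv.app (G.obj i)).app (op X) ((yoneda.map g).app (op X) (𝟙 X))
      simp [el]
    rw [h2, ev.map_comp]
    rfl
  have hinj : ∀ {j : I} (a b : X ⟶ G.obj j), el a = el b → a = b := fun {j} a b hab => by
    have h1 := congrArg ((θ.hom.app (G.obj j)).app (op X)) hab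
    simpa [el, ← ConcreteCategory.comp_apply, ← NatTrans.comp_app] using h1
  obtain ⟨j, f, f', hff⟩ := (Types.FilteredColimit.isColimit_eq_iff' hc (el g) (el h)).1 (by rw [helι, helι, e]) |> fun ⟨j, f, hf⟩ => (⟨j, f, f, hf⟩ : ∃ (j : I) (f f' : i ⟶ j), ((G ⋙ Y) ⋙ ev).map f (el g) = ((G ⋙ Y) ⋙ ev).map f (el h))
  exact ⟨j, f, hinj _ _ (by rw [← hel, ← hel, hff])⟩

/-- An epimorphism onto a representable is refined by a representable. -/
lemma exists_refine_epi {T : Ind C} {X : C} (p : T ⟶ (Y).obj X) [Epi p] :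
    ∃ (X' : C) (π : X' ⟶ X) (_ : Epi π) (a : (Y).obj X' ⟶ T), a ≫ p = (Y).map π := by
  let I := T.presentation.I
  let F : I ⥤ C := T.presentation.F
  let c := fun i => colimit.ι (F ⋙ Y) i ≫ T.colimitPresentationCompYoneda.hom
  have hc : ∀ {i j : I} (f : i ⟶ j), (Y).map (F.map f) ≫ c j = c i := fun {i j} f => by
    simp only [c, ← Category.assoc]
    congr 1
    exact colimit.w (F ⋙ Y) f
  let u : ∀ i, F.obj i ⟶ X := fun i => (Y).preimage (c i ≫ p)
  have hu : ∀ i, (Y).map (u i) = c i ≫ p := fun i => (Y).map_preimage _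
  have hnat : ∀ {i j : I} (f : i ⟶ j), F.map f ≫ u j = u i := fun {i j} f => (Y).map_injective (by
    rw [Functor.map_comp, hu, hu, ← Category.assoc, hc])
  let G : I ⥤ C :=
    { obj := fun i => cokernel (u i)
      map := fun {i j} f => cokernel.map (u i) (u j) (F.map f) (𝟙 X) (by rw [Category.comp_id]; exact (hnat f).symm)
      map_id := fun i => coequalizer.hom_ext (by simp)
      map_comp := fun f g => coequalizer.hom_ext (by simp) }
  haveI : IsFiltered I := inferInstance
  obtain ⟨i₀⟩ : Nonempty I := IsFiltered.nonempty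
  have hq : ∀ {i j : I} (f : i ⟶ j), cokernel.π (u i) ≫ G.map f = cokernel.π (u j) := fun {i j} f => by
    show cokernel.π (u i) ≫ cokernel.desc _ _ _ = _
    rw [cokernel.π_desc, Category.id_comp]
  let e : ∀ i, (Y).obj X ⟶ colimit (G ⋙ Y) := fun i => (Y).map (cokernel.π (u i)) ≫ colimit.ι (G ⋙ Y) i
  have he : ∀ {i j : I} (f : i ⟶ j), e i = e j := fun {i j} f => by
    simp only [e, ← colimit.w (G ⋙ Y) f, Functor.comp_map, ← Category.assoc, ← Functor.map_comp, hq]
  have he0 : e i₀ = 0 := by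
    rw [← cancel_epi p, ← cancel_epi T.colimitPresentationCompYoneda.hom]
    refine colimit.hom_ext fun i => ?_
    obtain ⟨j, f, f', -⟩ : ∃ (j : I) (f : i₀ ⟶ j) (f' : i ⟶ j), True :=
      ⟨_, IsFiltered.rightToMax i i₀, IsFiltered.leftToMax i i₀, trivial⟩
    rw [he f, ← he f', comp_zero, comp_zero, comp_zero]
    show colimit.ι (F ⋙ Y) i ≫ T.colimitPresentationCompYoneda.hom ≫ p ≫ e i = 0
    rw [← Category.assoc (colimit.ι (F ⋙ Y) i)]
    show c i ≫ p ≫ e i = 0
    rw [← Category.assoc, ← hu, ← Category.assoc, ← Functor.map_comp, cokernel.condition]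
    simp
  obtain ⟨j, f, hf⟩ := exists_map_eq G (cokernel.π (u i₀)) 0 (by rw [Functor.map_zero, zero_comp]; exact he0)
  rw [hq, zero_comp] at hf
  exact ⟨F.obj j, u j, Preadditive.epi_of_cokernel_zero hf, c j, (hu j).symm⟩

/-- Epimorphisms are surjective up to representable refinements. -/
lemma exists_refine {A B : Ind C} (g : A ⟶ B) [Epi g] {X : C} (b : (Y).obj X ⟶ B) :
    ∃ (X' : C) (π : X' ⟶ X) (_ : Epi π) (a : (Y).obj X' ⟶ A), (Y).map π ≫ b = a ≫ g := by
  obtain ⟨T, p, _, x, hx⟩ := surjective_up_to_refinements_of_epi g b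
  obtain ⟨X', π, hπ, a, ha⟩ := exists_refine_epi p
  exact ⟨X', π, hπ, a ≫ x, by rw [← ha, Category.assoc, hx, Category.assoc]⟩

/-- Exactness at `B` of `A → B → coker`. -/
lemma exists_refine_cokernel {A B : Ind C} (g : A ⟶ B) {X : C} (b : (Y).obj X ⟶ B)
    (hb : b ≫ cokernel.π g = 0) :
    ∃ (X' : C) (π : X' ⟶ X) (_ : Epi π) (a : (Y).obj X' ⟶ A), (Y).map π ≫ b = a ≫ g := by
  obtain ⟨T, p, _, x, hx⟩ := (CokernelCofork.IsColimit.comp_π_eq_zero_iff_up_to_refinements
    (cokernelIsCokernel g) b).1 hb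
  obtain ⟨X', π, hπ, a, ha⟩ := exists_refine_epi p
  exact ⟨X', π, hπ, a ≫ x, by rw [← ha, Category.assoc, hx, Category.assoc]⟩

lemma epi_of_refine {A B : Ind C} (g : A ⟶ B)
    (h : ∀ (X : C) (b : (Y).obj X ⟶ B), ∃ (X' : C) (π : X' ⟶ X) (_ : Epi π) (a : (Y).obj X' ⟶ A),
      (Y).map π ≫ b = a ≫ g) : Epi g := by
  refine Preadditive.epi_of_cancel_zero g fun {Z} k hk => hom_ext fun X b => ?_
  obtain ⟨X', π, _, a, ha⟩ := h X b
  rw [← cancel_epi ((Y).map π), ← Category.assoc, ha, Category.assoc, hk, comp_zero, comp_zero, comp_zero]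

variable {A B : Ind C}

/-- Membership in a subobject descends along refinements. -/
lemma factors_of_refine (S : Subobject A) {X X' : C} (π : X' ⟶ X) [Epi π] {a : (Y).obj X ⟶ A}
    (h : S.Factors ((Y).map π ≫ a)) : S.Factors a := by
  have h0 : a ≫ cokernel.π S.arrow = 0 := by
    rw [← cancel_epi ((Y).map π), comp_zero, ← Category.assoc, ← Subobject.factorThru_arrow S _ h,
      Category.assoc, cokernel.condition, comp_zero]
  have := Subobject.factors_comp_arrow (P := S) (Abelian.monoLift S.arrow a h0)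
  rwa [Abelian.monoLift_comp] at this

lemma le_of_factors {S T : Subobject A}
    (h : ∀ (X : C) (a : (Y).obj X ⟶ A), S.Factors a → T.Factors a) : S ≤ T := by
  have h0 : S.arrow ≫ cokernel.π T.arrow = 0 := hom_ext fun X a => by
    have h1 := h X (a ≫ S.arrow) (Subobject.factors_comp_arrow a)
    rw [← Category.assoc, ← Subobject.factorThru_arrow T _ h1, Category.assoc, cokernel.condition,
      comp_zero, comp_zero]
  exact Subobject.le_of_comm (Abelian.monoLift T.arrow S.arrow h0) (Abelian.monoLift_comp _ _ _)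

lemma factors_image_iff (g : B ⟶ A) {X : C} (a : (Y).obj X ⟶ A) :
    (imageSubobject g).Factors a ↔
      ∃ (X' : C) (π : X' ⟶ X) (_ : Epi π) (b : (Y).obj X' ⟶ B), (Y).map π ≫ a = b ≫ g := by
  constructor
  · intro h
    obtain ⟨X', π, hπ, b, hb⟩ := exists_refine (factorThruImageSubobject g) ((imageSubobject g).factorThru a h)
    refine ⟨X', π, hπ, b, ?_⟩
    rw [← Subobject.factorThru_arrow _ a h, ← Category.assoc, hb, Category.assoc, imageSubobject_arrow_comp]
  · rintro ⟨X', π, hπ, b, hb⟩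
    refine factors_of_refine _ π ?_
    have h1 := Subobject.factors_comp_arrow (P := imageSubobject g) (b ≫ factorThruImageSubobject g)
    rwa [Category.assoc, imageSubobject_arrow_comp, ← hb] at h1

/-- Objects isomorphic to representables. -/
abbrev Ess (Q : Ind C) : Prop := (Ind.yoneda (C := C)).essImage Q

lemma Ess.of_iso {P Q : Ind C} (h : Ess P) (e : P ≅ Q) : Ess Q := Functor.essImage.ofIso e h

lemma ess_kernel {P Q : Ind C} (hP : Ess P) (hQ : Ess Q) (f : P ⟶ Q) : Ess (kernel f) := by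
  let a := hP.getIso
  let b := hQ.getIso
  let f₀ : hP.witness ⟶ hQ.witness := (Y).preimage (a.hom ≫ f ≫ b.inv)
  refine ⟨kernel f₀, ⟨PreservesKernel.iso Y f₀ ≪≫ kernel.mapIso _ _ a b ?_⟩⟩
  simp [f₀]

lemma ess_cokernel {P Q : Ind C} (hP : Ess P) (hQ : Ess Q) (f : P ⟶ Q) : Ess (cokernel f) := by
  let a := hP.getIso
  let b := hQ.getIso
  let f₀ : hP.witness ⟶ hQ.witness := (Y).preimage (a.hom ≫ f ≫ b.inv)
  refine ⟨cokernel f₀, ⟨PreservesCokernel.iso Y f₀ ≪≫ cokernel.mapIso _ _ a b ?_⟩⟩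
  simp [f₀]

lemma ess_image {P Q : Ind C} (hP : Ess P) (hQ : Ess Q) (f : P ⟶ Q) :
    Ess ((imageSubobject f : Subobject Q) : Ind C) :=
  (ess_kernel hQ (ess_cokernel hP hQ f) (cokernel.π f)).of_iso
    ((Abelian.imageIsoImage f) ≪≫ (imageSubobjectIso f).symm)

lemma ess_pullback {P Q R : Ind C} (hP : Ess P) (hQ : Ess Q) (hR : Ess R) (f : P ⟶ R) (g : Q ⟶ R) :
    Ess (pullback f g) := by
  let a := hP.getIso
  let b := hQ.getIso
  let c := hR.getIso
  let f₀ : hP.witness ⟶ hR.witness := (Y).preimage (a.hom ≫ f ≫ c.inv)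
  let g₀ : hQ.witness ⟶ hR.witness := (Y).preimage (b.hom ≫ g ≫ c.inv)
  refine ⟨pullback f₀ g₀, ⟨PreservesPullback.iso Y f₀ g₀ ≪≫
    asIso (pullback.map _ _ f g a.hom b.hom c.hom ?_ ?_)⟩⟩
  · simp [f₀]
  · simp [g₀]

/-- A criterion for a quotient of a representable to be representable. -/
lemma ess_of_presentation {E F Q : Ind C} (hE : Ess E) (hF : Ess F) (φ : E ⟶ Q) (ψ : F ⟶ E)
    (hw : ψ ≫ φ = 0)
    (hepi : ∀ (X : C) (b : (Y).obj X ⟶ Q), ∃ (X' : C) (π : X' ⟶ X) (_ : Epi π) (a : (Y).obj X' ⟶ E),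
      (Y).map π ≫ b = a ≫ φ)
    (hex : ∀ (X : C) (x : (Y).obj X ⟶ E), x ≫ φ = 0 → ∃ (X' : C) (π : X' ⟶ X) (_ : Epi π)
      (y : (Y).obj X' ⟶ F), (Y).map π ≫ x = y ≫ ψ) : Ess Q := by
  haveI : Epi φ := epi_of_refine φ hepi
  haveI : Epi (kernel.lift φ ψ hw) := epi_of_refine _ fun X b => by
    obtain ⟨X', π, hπ, y, hy⟩ := hex X (b ≫ kernel.ι φ) (by simp)
    refine ⟨X', π, hπ, y, ?_⟩
    rw [← cancel_mono (kernel.ι φ), Category.assoc, Category.assoc, kernel.lift_ι, hy]
  haveI : IsIso (cokernel.desc ψ φ hw) := by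
    haveI : Mono (cokernel.desc ψ φ hw) := by
      refine Preadditive.mono_of_cancel_zero _ fun {Z} g hg => ?_
      obtain ⟨T, p, _, x, hx⟩ := surjective_up_to_refinements_of_epi (cokernel.π ψ) g
      have hx0 : x ≫ φ = 0 := by
        rw [← cokernel.π_desc ψ φ hw, ← Category.assoc, ← hx, Category.assoc, hg, comp_zero]
      obtain ⟨T', p', _, y, hy⟩ :=
        surjective_up_to_refinements_of_epi (kernel.lift φ ψ hw) (kernel.lift φ x hx0)
      rw [← cancel_epi p, comp_zero, hx, ← cancel_epi p', comp_zero]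
      have := hy =≫ kernel.ι φ
      rw [Category.assoc, kernel.lift_ι, Category.assoc, kernel.lift_ι] at this
      rw [← Category.assoc, this, Category.assoc, cokernel.condition, comp_zero]
    haveI : Epi (cokernel.desc ψ φ hw) := epi_of_epi_fac (cokernel.π_desc ψ φ hw)
    exact isIso_of_mono_of_epi _
  exact (ess_cokernel hF hE ψ).of_iso (asIso (cokernel.desc ψ φ hw))

/-- Stabilisation of decreasing chains of representable subobjects of a representable. -/
lemma chain_stab (hart : ∀ X : C, IsArtinianObject X) {Z : Ind C} (hZ : Ess Z) (S : ℕ → Subobject Z)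
    (hS : Antitone S) (hess : ∀ m, Ess (S m : Ind C)) : ∃ N, ∀ m, N ≤ m → S m = S N := by
  let c := hZ.getIso
  let ι : ∀ m, (hess m).witness ⟶ hZ.witness := fun m =>
    (Y).preimage ((hess m).getIso.hom ≫ (S m).arrow ≫ c.inv)
  have hι : ∀ m, (Y).map (ι m) = (hess m).getIso.hom ≫ (S m).arrow ≫ c.inv := fun m => (Y).map_preimage _
  haveI : ∀ m, Mono (ι m) := fun m => Functor.mono_of_mono_map Y (by rw [hι]; infer_instance)
  let T : ℕ → Subobject hZ.witness := fun m => Subobject.mk (ι m)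
  have hle : ∀ m n, S m ≤ S n ↔ T m ≤ T n := by
    intro m n
    constructor
    · intro h
      refine Subobject.mk_le_mk_of_comm
        ((Y).preimage ((hess m).getIso.hom ≫ Subobject.ofLE _ _ h ≫ (hess n).getIso.inv)) ((Y).map_injective ?_)
      rw [Functor.map_comp, (Y).map_preimage, hι, hι]
      simp
    · intro h
      refine Subobject.le_of_comm
        ((hess m).getIso.inv ≫ (Y).map (Subobject.ofMkLEMk (ι m) (ι n) h) ≫ (hess n).getIso.hom) ?_
      have := congrArg (Y).map (Subobject.ofMkLEMk_comp h)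
      rw [Functor.map_comp, hι, hι] at this
      have := this =≫ c.hom
      simp only [Category.assoc, Iso.inv_hom_id, Category.comp_id] at this ⊢
      rw [this]
      simp
  haveI := hart hZ.witness
  obtain ⟨N, hN⟩ := antitone_chain_condition_of_isArtinianObject
    (⟨fun m => OrderDual.toDual (T m), fun a b h => (hle b a).1 (hS h)⟩ : ℕ →o (Subobject hZ.witness)ᵒᵈ)
  exact ⟨N, fun m hm => le_antisymm (hS hm) ((hle N m).2 (le_of_eq (congrArg OrderDual.ofDual (hN m hm))))⟩

end Groth.Agent.IndCofH28
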