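import Groth.Agent.Lib.IndCofH28.Basic
import Mathlib.Algebra.Module.Basic
import Mathlib.Data.Nat.Prime.Basic
import Mathlib.Data.Nat.Factorization.Basic
import Mathlib.RingTheory.Coprime.Lemmas
import Mathlib.Data.Fintype.Pigeonhole
import Mathlib.Data.ZMod.Basic

/-!
# Ind-objects of cofinite type
-/

open CategoryTheory Limits Preadditive

universe v

namespace Groth.Agent.IndCofH28

variable {C : Type v} [SmallCategory C] [Abelian C]

local notation "Y" => (Ind.yoneda (C := C))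

/-- Every object of `C` is killed by a positive integer. -/
def Tors (C : Type v) [SmallCategory C] [Abelian C] : Prop :=
  ∀ X : C, ∃ n : ℕ, 0 < n ∧ n • 𝟙 X = 0

/-- Cofinite type. -/
def Cof (A : Ind C) : Prop := ∀ n : ℕ, 0 < n → Ess (kernel (n • 𝟙 A))

instance : (Ind.yoneda (C := C)).Additive := Functor.additive_of_preserves_binary_products _

lemma exists_killed (htor : Tors C) {A : Ind C} {X : C} (a : (Y).obj X ⟶ A) : ∃ n : ℕ, 0 < n ∧ n • a = 0 := by
  obtain ⟨n, hn, hX⟩ := htor X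
  refine ⟨n, hn, ?_⟩
  have h := congrArg ((Y).map) hX
  rw [Functor.map_nsmul, CategoryTheory.Functor.map_id, Functor.map_zero] at h
  rw [← Category.id_comp a, ← Preadditive.nsmul_comp, h, zero_comp]

lemma smul_id_comp {A B : Ind C} (x : B ⟶ A) (n : ℕ) : x ≫ (n • 𝟙 A) = n • x := by
  rw [Preadditive.comp_nsmul, Category.comp_id]

/-- An element killed by `n`, as an element of the torsion. -/
noncomputable def torLift {A T : Ind C} (n : ℕ) (x : T ⟶ A) (h : n • x = 0) : T ⟶ kernel (n • 𝟙 A) :=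
  kernel.lift _ x (by rw [smul_id_comp, h])

@[reassoc (attr := simp)]
lemma torLift_ι {A T : Ind C} (n : ℕ) (x : T ⟶ A) (h : n • x = 0) :
    torLift n x h ≫ kernel.ι (n • 𝟙 A) = x := kernel.lift_ι _ _ _

lemma smul_ι (A : Ind C) (n : ℕ) : n • kernel.ι (n • 𝟙 A) = 0 := by
  exact (smul_id_comp _ _).symm.trans (kernel.condition _)

lemma smul_ι_of_dvd (A : Ind C) {n m : ℕ} (h : n ∣ m) : m • kernel.ι (n • 𝟙 A) = 0 := by
  obtain ⟨c, rfl⟩ := h
  rw [mul_comm, mul_smul, smul_ι, smul_zero]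

lemma smul_of_comp {A T : Ind C} {n : ℕ} (x : T ⟶ kernel (n • 𝟙 A)) : n • (x ≫ kernel.ι (n • 𝟙 A)) = 0 := by
  rw [← Preadditive.comp_nsmul, smul_ι, comp_zero]

lemma exists_killed_pow {G : Type*} [AddCommGroup G] {M : ℕ} (hM : 0 < M) {a : G} (ha : M • a = 0) (n : ℕ) :
    ∃ j d : ℕ, n ^ j • (a - n ^ (d + 1) • a) = 0 := by
  haveI : NeZero M := ⟨hM.ne'⟩
  obtain ⟨i, j, hne, hij⟩ := Finite.exists_ne_map_eq_of_infinite fun i : ℕ => ((n ^ i : ℕ) : ZMod M)
  have key : ∀ i j : ℕ, i < j → ((n ^ i : ℕ) : ZMod M) = ((n ^ j : ℕ) : ZMod M) →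
      ∃ j d : ℕ, n ^ j • (a - n ^ (d + 1) • a) = 0 := by
    intro i j hlt he
    refine ⟨i, j - i - 1, ?_⟩
    rw [smul_sub, smul_smul, ← pow_add, show i + (j - i - 1 + 1) = j by omega, sub_eq_zero]
    have hmod : n ^ i % M = n ^ j % M := (ZMod.natCast_eq_natCast_iff' _ _ M).1 he
    rw [← Nat.mod_add_div (n ^ i) M, ← Nat.mod_add_div (n ^ j) M, hmod]
    simp only [add_smul, mul_comm M, mul_smul, ha, smul_zero]
  rcases lt_or_gt_of_ne hne with h | h
  · exact key i j h hij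
  · exact key j i h hij.symm

/-- The image of `m` from the `nm`-torsion to the `n`-torsion. -/
noncomputable def mulTor (A : Ind C) (n m : ℕ) : kernel ((n * m) • 𝟙 A) ⟶ kernel (n • 𝟙 A) :=
  torLift n (m • kernel.ι ((n * m) • 𝟙 A)) (by rw [smul_smul, smul_ι])

lemma exists_smul_of_factors {A : Ind C} {n m : ℕ} {X : C} {a : (Y).obj X ⟶ kernel (n • 𝟙 A)}
    (h : (imageSubobject (mulTor A n m)).Factors a) :
    ∃ (X' : C) (π : X' ⟶ X) (_ : Epi π) (b : (Y).obj X' ⟶ A),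
      (n * m) • b = 0 ∧ (Y).map π ≫ a ≫ kernel.ι (n • 𝟙 A) = m • b := by
  obtain ⟨X', π, hπ, y, hy⟩ := (factors_image_iff _ _).1 h
  exact ⟨X', π, hπ, y ≫ kernel.ι _, smul_of_comp y, by
    rw [← Category.assoc, hy, mulTor, Category.assoc, torLift_ι, Preadditive.comp_nsmul]⟩

lemma factors_mulTor {A : Ind C} {n m : ℕ} {X : C} (b : (Y).obj X ⟶ A) (hb : (n * m) • b = 0) :
    (imageSubobject (mulTor A n m)).Factors (torLift n (m • b) (by rwa [smul_smul])) := by
  refine (factors_image_iff _ _).2 ⟨X, 𝟙 X, inferInstance, torLift _ b hb, ?_⟩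
  rw [← cancel_mono (kernel.ι (n • 𝟙 A))]
  simp [mulTor, Preadditive.comp_nsmul]

/-- Eventually the elements of `n`-torsion divisible by `m` are divisible by every multiple. -/
theorem exists_stab (hart : ∀ X : C, IsArtinianObject X) {A : Ind C} (hA : Cof A) {n : ℕ} (hn : 0 < n) :
    ∃ m₀ : ℕ, 0 < m₀ ∧ ∀ (X : C) (x : (Y).obj X ⟶ A) (m k : ℕ), 0 < k → m₀ ∣ m → 0 < m → (n * m) • x = 0 →
      ∃ (X' : C) (π : X' ⟶ X) (_ : Epi π) (y : (Y).obj X' ⟶ A),
        (n * k) • y = 0 ∧ (Y).map π ≫ (m • x) = k • y := by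
  let S : ℕ → Subobject (kernel (n • 𝟙 A)) := fun j => imageSubobject (mulTor A n j.factorial)
  have hle : ∀ {i j : ℕ}, i ∣ j → imageSubobject (mulTor A n j) ≤ imageSubobject (mulTor A n i) := by
    rintro i j ⟨c, rfl⟩
    refine le_of_factors fun X a ha => ?_
    obtain ⟨X', π, hπ, b, hb, hab⟩ := exists_smul_of_factors ha
    refine factors_of_refine _ π ?_
    have h1 := factors_mulTor (n := n) (m := i) (c • b) (by rw [smul_smul, mul_assoc, hb])
    convert h1 using 1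
    rw [← cancel_mono (kernel.ι (n • 𝟙 A)), Category.assoc, hab, torLift_ι, smul_smul]
  obtain ⟨N, hN⟩ := chain_stab hart (hA n hn) S (fun i j hij => hle (Nat.factorial_dvd_factorial hij))
    (fun j => ess_image (hA _ (Nat.mul_pos hn j.factorial_pos)) (hA n hn) _)
  refine ⟨N.factorial, N.factorial_pos, fun X x m k hk hNm hm hx => ?_⟩
  let M := max N (max m k)
  have h1 : imageSubobject (mulTor A n m) ≤ imageSubobject (mulTor A n k) :=
    calc imageSubobject (mulTor A n m) ≤ imageSubobject (mulTor A n N.factorial) := hle hNm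
      _ = imageSubobject (mulTor A n M.factorial) := (hN M (le_max_left _ _)).symm
      _ ≤ imageSubobject (mulTor A n k) :=
        hle (Nat.dvd_factorial hk ((le_max_right _ _).trans (le_max_right _ _)))
  have hx' : (n * m) • x = 0 := hx
  obtain ⟨X', π, hπ, y, hy, hxy⟩ := exists_smul_of_factors
    (Subobject.factors_of_le _ h1 (factors_mulTor (n := n) (m := m) x hx'))
  exact ⟨X', π, hπ, y, hy, by rwa [torLift_ι] at hxy⟩

/-- `A = A[m₀] + n A`. -/
theorem exists_decomp (hart : ∀ X : C, IsArtinianObject X) (htor : Tors C) {A : Ind C} (hA : Cof A)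
    {n : ℕ} (hn : 0 < n) :
    ∃ m₀ : ℕ, 0 < m₀ ∧ ∀ (X : C) (a : (Y).obj X ⟶ A), ∃ (X' : C) (π : X' ⟶ X) (_ : Epi π)
      (a₀ b : (Y).obj X' ⟶ A), m₀ • a₀ = 0 ∧ (Y).map π ≫ a = a₀ + n • b := by
  obtain ⟨m₀, hm₀, hstab⟩ := exists_stab hart hA hn
  refine ⟨m₀, hm₀, ?_⟩
  have key : ∀ (j : ℕ) (X : C) (a : (Y).obj X ⟶ A), (m₀ * n ^ j) • a = 0 →
      ∃ (X' : C) (π : X' ⟶ X) (_ : Epi π) (a₀ b : (Y).obj X' ⟶ A),
        m₀ • a₀ = 0 ∧ (Y).map π ≫ a = a₀ + n • b := by
    intro j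
    induction j with
    | zero => intro X a ha; exact ⟨X, 𝟙 X, inferInstance, a, 0, by simpa using ha, by simp⟩
    | succ j ih =>
      intro X a ha
      set m := m₀ * n ^ j
      have hm : 0 < m := Nat.mul_pos hm₀ (pow_pos hn j)
      have h1 : (n * m) • a = 0 := by rw [show n * m = m₀ * n ^ (j + 1) by ring, ha]
      obtain ⟨X₁, π₁, hπ₁, y, -, hy⟩ := hstab X a m (m * n) (Nat.mul_pos hm hn) ⟨n ^ j, rfl⟩ hm h1
      have h2 : m • ((Y).map π₁ ≫ a - n • y) = 0 := by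
        rw [smul_sub, ← Preadditive.comp_nsmul, hy, smul_smul, sub_self]
      obtain ⟨X₂, π₂, hπ₂, a₀, b, ha₀, hb⟩ := ih X₁ _ h2
      refine ⟨X₂, π₂ ≫ π₁, epi_comp _ _, a₀, b + (Y).map π₂ ≫ y, ha₀, ?_⟩
      rw [Functor.map_comp, Category.assoc, smul_add, ← add_assoc, ← hb, Preadditive.comp_sub,
        Preadditive.comp_nsmul, sub_add_cancel]
  intro X a
  obtain ⟨M, hM, hMa⟩ := exists_killed htor a
  obtain ⟨j, d, hjd⟩ := exists_killed_pow hM hMa n
  obtain ⟨X', π, hπ, a₀, b, ha₀, hb⟩ := key j X _ (by rw [mul_smul, hjd, smul_zero])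
  refine ⟨X', π, hπ, a₀, b + n ^ d • ((Y).map π ≫ a), ha₀, ?_⟩
  rw [Preadditive.comp_sub, Preadditive.comp_nsmul, sub_eq_iff_eq_add] at hb
  rw [smul_add, smul_smul, ← add_assoc, ← pow_succ']
  exact hb

/-- `A / nA` is in `C`. -/
theorem ess_cokernel_smul (hart : ∀ X : C, IsArtinianObject X) (htor : Tors C) {A : Ind C} (hA : Cof A)
    {n : ℕ} (hn : 0 < n) : Ess (cokernel (n • 𝟙 A)) := by
  obtain ⟨m₀, hm₀, hdec⟩ := exists_decomp hart htor hA hn
  refine ess_of_presentation (hA m₀ hm₀) (hA (m₀ * n) (Nat.mul_pos hm₀ hn))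
    (kernel.ι _ ≫ cokernel.π _) (mulTor A m₀ n) ?_ (fun X b => ?_) (fun X x hx => ?_)
  · have h0 : n • cokernel.π (n • 𝟙 A) = 0 := by
      have := cokernel.condition (n • 𝟙 A)
      rwa [Preadditive.nsmul_comp, Category.id_comp] at this
    rw [mulTor, torLift_ι_assoc, Preadditive.nsmul_comp, ← Preadditive.comp_nsmul, h0, comp_zero]
  · obtain ⟨X₁, π₁, hπ₁, a, ha⟩ := exists_refine (cokernel.π (n • 𝟙 A)) b
    obtain ⟨X₂, π₂, hπ₂, a₀, c, ha₀, hc⟩ := hdec X₁ a
    refine ⟨X₂, π₂ ≫ π₁, epi_comp _ _, torLift m₀ a₀ ha₀, ?_⟩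
    rw [torLift_ι_assoc, Functor.map_comp, Category.assoc, ha, ← Category.assoc, hc, Preadditive.add_comp,
      ← smul_id_comp c, Category.assoc, cokernel.condition, comp_zero, add_zero]
  · rw [← Category.assoc] at hx
    obtain ⟨X₁, π₁, hπ₁, y, hy⟩ := exists_refine_cokernel _ _ hx
    rw [smul_id_comp] at hy
    have hy0 : (m₀ * n) • y = 0 := by
      rw [mul_smul, ← hy, ← Preadditive.comp_nsmul, smul_of_comp, comp_zero]
    refine ⟨X₁, π₁, hπ₁, torLift _ y hy0, ?_⟩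
    rw [← cancel_mono (kernel.ι (m₀ • 𝟙 A)), Category.assoc, Category.assoc, mulTor, torLift_ι,
      Preadditive.comp_nsmul, torLift_ι, hy]

/-- The map on torsion. -/
noncomputable def torMap {A B : Ind C} (f : A ⟶ B) (n m : ℕ) (h : n ∣ m) :
    kernel (n • 𝟙 A) ⟶ kernel (m • 𝟙 B) :=
  torLift m (kernel.ι _ ≫ f) (by rw [← Preadditive.nsmul_comp, smul_ι_of_dvd A h, zero_comp])

@[reassoc (attr := simp)]
lemma torMap_ι {A B : Ind C} (f : A ⟶ B) (n m : ℕ) (h : n ∣ m) :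
    torMap f n m h ≫ kernel.ι (m • 𝟙 B) = kernel.ι _ ≫ f := torLift_ι _ _ _

lemma cof_kernel {A B : Ind C} (hA : Cof A) (hB : Cof B) (f : A ⟶ B) : Cof (kernel f) := by
  intro n hn
  have h1 : n • ((kernel.ι (torMap f n n dvd_rfl)) ≫ kernel.ι (n • 𝟙 A)) = 0 := smul_of_comp _
  have h2 : (kernel.ι (torMap f n n dvd_rfl) ≫ kernel.ι (n • 𝟙 A)) ≫ f = 0 := by
    rw [Category.assoc, ← torMap_ι f n n dvd_rfl, kernel.condition_assoc, zero_comp]
  have h3 : n • (kernel.ι (n • 𝟙 (kernel f)) ≫ kernel.ι f) = 0 := by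
    rw [← Preadditive.nsmul_comp, smul_ι, zero_comp]
  refine (ess_kernel (hA n hn) (hB n hn) (torMap f n n dvd_rfl)).of_iso
    { hom := torLift n (kernel.lift f _ h2)
        (by rw [← cancel_mono (kernel.ι f), Preadditive.nsmul_comp, kernel.lift_ι, h1, zero_comp])
      inv := kernel.lift _ (torLift n _ h3)
        (by rw [← cancel_mono (kernel.ι (n • 𝟙 B))]; simp)
      hom_inv_id := by
        rw [← cancel_mono (kernel.ι (torMap f n n dvd_rfl)), ← cancel_mono (kernel.ι (n • 𝟙 A))]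
        simp
      inv_hom_id := by
        rw [← cancel_mono (kernel.ι (n • 𝟙 (kernel f))), ← cancel_mono (kernel.ι f)]
        simp }

theorem cof_cokernel (hart : ∀ X : C, IsArtinianObject X) (htor : Tors C) {A B : Ind C} (hA : Cof A)
    (hB : Cof B) (f : A ⟶ B) : Cof (cokernel f) := by
  intro n hn
  obtain ⟨m₀, hm₀, hdecA⟩ := exists_decomp hart htor hA hn
  set M := n * m₀
  have hM : 0 < M := Nat.mul_pos hn hm₀
  obtain ⟨mK, hmK, hdecK⟩ := exists_decomp hart htor (cof_kernel hA hB f) hM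
  have hg0 : m₀ • n • kernel.ι (M • 𝟙 B) = 0 := by
    rw [← mul_smul, show m₀ * n = M from mul_comm _ _, smul_ι]
  let g : kernel (M • 𝟙 B) ⟶ kernel (m₀ • 𝟙 B) := torLift m₀ (n • kernel.ι _) hg0
  let t := torMap f m₀ m₀ dvd_rfl
  let P := pullback t g
  have hP : Ess P := ess_pullback (hA m₀ hm₀) (hB M hM) (hB m₀ hm₀) _ _
  have hP2 : n • ((pullback.snd t g ≫ kernel.ι _) ≫ cokernel.π f) = 0 := by
    rw [← Preadditive.nsmul_comp, ← Preadditive.comp_nsmul, ← torLift_ι m₀ (n • kernel.ι (M • 𝟙 B)) hg0,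
      ← pullback.condition_assoc, torMap_ι, Category.assoc, Category.assoc, cokernel.condition, comp_zero,
      comp_zero]
  let u : kernel ((M * mK) • 𝟙 A) ⟶ kernel ((M * mK) • 𝟙 B) := torMap f _ _ dvd_rfl
  have hw0 : (M * mK) • (pullback.snd t g ≫ kernel.ι (M • 𝟙 B)) = 0 := by
    rw [mul_comm M mK, mul_smul mK M, smul_of_comp, smul_zero]
  let w : P ⟶ kernel ((M * mK) • 𝟙 B) := torLift _ (pullback.snd t g ≫ kernel.ι (M • 𝟙 B)) hw0
  have hF : Ess (pullback w u) :=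
    ess_pullback hP (hA _ (Nat.mul_pos hM hmK)) (hB _ (Nat.mul_pos hM hmK)) _ _
  refine ess_of_presentation hP hF (torLift n _ hP2) (pullback.fst w u) ?_ (fun X q => ?_) (fun X x hx => ?_)
  · rw [← cancel_mono (kernel.ι (n • 𝟙 (cokernel f))), Category.assoc, torLift_ι, zero_comp,
      ← torLift_ι (M * mK) (pullback.snd t g ≫ kernel.ι (M • 𝟙 B)) hw0, Category.assoc,
      pullback.condition_assoc, torMap_ι_assoc, cokernel.condition, comp_zero, comp_zero]
  · obtain ⟨X₁, π₁, hπ₁, b, hb⟩ := exists_refine (cokernel.π f) (q ≫ kernel.ι (n • 𝟙 (cokernel f)))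
    have hnb : (n • b) ≫ cokernel.π f = 0 := by
      rw [Preadditive.nsmul_comp, ← hb, ← Preadditive.comp_nsmul, smul_of_comp, comp_zero]
    obtain ⟨X₂, π₂, hπ₂, a, ha⟩ := exists_refine_cokernel _ _ hnb
    obtain ⟨X₃, π₃, hπ₃, a₀, a', ha₀, haa⟩ := hdecA X₂ a
    set b' := (Y).map π₃ ≫ (Y).map π₂ ≫ b - a' ≫ f
    have hnb' : n • b' = a₀ ≫ f := by
      rw [smul_sub, ← Preadditive.comp_nsmul, ← Preadditive.comp_nsmul, ha, ← Category.assoc, haa,
        Preadditive.add_comp, Preadditive.nsmul_comp, add_sub_cancel_right]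
    have hMb' : M • b' = 0 := by
      rw [show M = m₀ * n from mul_comm _ _, mul_smul, hnb', ← Preadditive.nsmul_comp, ha₀, zero_comp]
    have hcomm : torLift m₀ a₀ ha₀ ≫ t = torLift M b' hMb' ≫ g := by
      rw [← cancel_mono (kernel.ι (m₀ • 𝟙 B)), Category.assoc, Category.assoc, torMap_ι, torLift_ι,
        torLift_ι_assoc, Preadditive.comp_nsmul, torLift_ι, hnb']
    refine ⟨X₃, π₃ ≫ π₂ ≫ π₁, epi_comp _ _,
      pullback.lift (torLift m₀ a₀ ha₀) (torLift M b' hMb') hcomm, ?_⟩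
    rw [← cancel_mono (kernel.ι (n • 𝟙 (cokernel f)))]
    simp only [Category.assoc, torLift_ι, pullback.lift_snd_assoc, torLift_ι_assoc, Functor.map_comp,
      Preadditive.sub_comp, cokernel.condition, comp_zero, sub_zero, hb, b']
  · have hxb : ((x ≫ pullback.snd t g) ≫ kernel.ι _) ≫ cokernel.π f = 0 := by
      have := hx =≫ kernel.ι (n • 𝟙 (cokernel f))
      simpa using this
    obtain ⟨X₁, π₁, hπ₁, c, hc⟩ := exists_refine_cokernel _ _ hxb
    have hMc : (M • c) ≫ f = 0 := by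
      rw [Preadditive.nsmul_comp, ← hc, ← Preadditive.comp_nsmul, smul_of_comp, comp_zero]
    obtain ⟨X₂, π₂, hπ₂, k₀, k', hk₀, hk⟩ := hdecK X₁ (kernel.lift f _ hMc)
    set c' := (Y).map π₂ ≫ c - k' ≫ kernel.ι f
    have hc' : (M * mK) • c' = 0 := by
      have h1 : M • c' = k₀ ≫ kernel.ι f := by
        have := hk =≫ kernel.ι f
        rw [Category.assoc, kernel.lift_ι, Preadditive.add_comp, Preadditive.nsmul_comp] at this
        rw [smul_sub, ← Preadditive.comp_nsmul, this, add_sub_cancel_right]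
      rw [mul_comm, mul_smul, h1, ← Preadditive.nsmul_comp, hk₀, zero_comp]
    refine ⟨X₂, π₂ ≫ π₁, epi_comp _ _,
      pullback.lift ((Y).map (π₂ ≫ π₁) ≫ x) (torLift (M * mK) c' hc') ?_, (pullback.lift_fst _ _ _).symm⟩
    rw [← cancel_mono (kernel.ι ((M * mK) • 𝟙 B)), Category.assoc, Category.assoc, Category.assoc,
      torLift_ι, torMap_ι, torLift_ι_assoc, Preadditive.sub_comp, Category.assoc, Category.assoc,
      kernel.condition, comp_zero, sub_zero, ← hc]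
    simp

lemma cof_image (hart : ∀ X : C, IsArtinianObject X) (htor : Tors C) {A B : Ind C} (hA : Cof A)
    (hB : Cof B) (g : A ⟶ B) : Cof ((imageSubobject g : Subobject B) : Ind C) := by
  intro n hn
  refine (cof_kernel hB (cof_cokernel hart htor hA hB g) (cokernel.π g) n hn).of_iso
    (kernel.mapIso _ _ ((Abelian.imageIsoImage g) ≪≫ (imageSubobjectIso g).symm)
      ((Abelian.imageIsoImage g) ≪≫ (imageSubobjectIso g).symm) ?_)
  rw [Preadditive.nsmul_comp, Category.id_comp, Preadditive.comp_nsmul, Category.comp_id]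

/-! ### The case of a single prime -/

lemma tors_of_pow {p : ℕ} (hp : p.Prime) (h : ∀ X : C, ∃ n : ℕ, (p ^ n) • 𝟙 X = 0) : Tors C := fun X =>
  let ⟨n, hn⟩ := h X
  ⟨p ^ n, pow_pos hp.pos n, hn⟩

lemma exists_killed_prime {p : ℕ} (h : ∀ X : C, ∃ n : ℕ, (p ^ n) • 𝟙 X = 0) {A : Ind C} {X : C}
    (a : (Y).obj X ⟶ A) : ∃ j, p ^ j • a = 0 := by
  obtain ⟨j, hj⟩ := h X
  refine ⟨j, ?_⟩
  have h := congrArg ((Y).map) hj
  rw [Functor.map_nsmul, CategoryTheory.Functor.map_id, Functor.map_zero] at h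
  rw [← Category.id_comp a, ← Preadditive.nsmul_comp, h, zero_comp]

lemma cof_of_pow {p : ℕ} (hp : p.Prime) (h : ∀ X : C, ∃ n : ℕ, (p ^ n) • 𝟙 X = 0) {A : Ind C}
    (hA : ∀ n : ℕ, Ess (kernel ((p ^ n) • 𝟙 A))) : Cof A := by
  intro n hn
  obtain ⟨v, u, hu, rfl⟩ := Nat.exists_eq_pow_mul_and_not_dvd hn.ne' p hp.ne_one
  have hkill : (p ^ v) • kernel.ι ((p ^ v * u) • 𝟙 A) = 0 := hom_ext fun X x => by
    rw [Preadditive.comp_nsmul, comp_zero]
    set a := x ≫ kernel.ι ((p ^ v * u) • 𝟙 A)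
    obtain ⟨j, hj⟩ := exists_killed_prime h a
    obtain ⟨s, t, hst⟩ := Nat.Coprime.isCoprime ((hp.coprime_iff_not_dvd.2 hu).pow_left j).symm
    have h1 : u • (p ^ v • a) = 0 := by rw [smul_smul, mul_comm, smul_of_comp]
    calc p ^ v • a = (s * (u : ℤ) + t * ((p ^ j : ℕ) : ℤ)) • (p ^ v • a) := by rw [hst, one_smul]
      _ = 0 := by
        rw [add_smul, mul_smul, mul_smul, natCast_zsmul, natCast_zsmul, h1, smul_comm (p ^ j) (p ^ v),
          hj, smul_zero, smul_zero, smul_zero, add_zero]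
  refine (hA v).of_iso
    { hom := torLift _ (kernel.ι _) (smul_ι_of_dvd A (dvd_mul_right _ _))
      inv := torLift _ (kernel.ι _) hkill
      hom_inv_id := by rw [← cancel_mono (kernel.ι ((p ^ v) • 𝟙 A))]; simp
      inv_hom_id := by rw [← cancel_mono (kernel.ι ((p ^ v * u) • 𝟙 A))]; simp }

end Groth.Agent.IndCofH28
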