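import Groth.Agent.Lib.IndCofH28.Cof

/-!
# Divisible parts of ind-objects of cofinite type
-/

open CategoryTheory Limits Preadditive

universe v u w

namespace Groth.Agent.IndCofH28

section General

variable {V : Type u} [Category.{w} V] [Abelian V] {B : V}

lemma comp_smul_id {T : V} (x : T ⟶ B) (n : ℕ) : x ≫ (n • 𝟙 B) = n • x := by
  rw [Preadditive.comp_nsmul, Category.comp_id]

lemma le_of_comp_π {S T : Subobject B} (h : S.arrow ≫ cokernel.π T.arrow = 0) : S ≤ T :=
  Subobject.le_of_comm (Abelian.monoLift T.arrow S.arrow h) (Abelian.monoLift_comp _ _ _)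

lemma image_le {A : V} (g : A ⟶ B) {T : Subobject B} (h : g ≫ cokernel.π T.arrow = 0) :
    imageSubobject g ≤ T :=
  imageSubobject_le g (Abelian.monoLift T.arrow g h) (Abelian.monoLift_comp _ _ _)

lemma image_comp_π {A : V} (g : A ⟶ B) : g ≫ cokernel.π (imageSubobject g).arrow = 0 := by
  conv_lhs => arg 1; rw [← imageSubobject_arrow_comp g]
  rw [Category.assoc, cokernel.condition, comp_zero]

/-- A divisible subobject lies in every `kB`. -/
lemma le_image_of_div {D : Subobject B} (k : ℕ) [Epi (k • 𝟙 (D : V))] :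
    D ≤ imageSubobject (k • 𝟙 B) := by
  refine le_of_comp_π ?_
  rw [← cancel_epi (k • 𝟙 (D : V)), comp_zero, Preadditive.nsmul_comp, Category.id_comp,
    ← Preadditive.nsmul_comp, ← comp_smul_id (B := B) D.arrow k, Category.assoc, image_comp_π, comp_zero]

lemma image_le_of_kills {B' : Subobject B} {M k : ℕ} (hM : M • 𝟙 (cokernel B'.arrow) = 0) (h : M ∣ k) :
    imageSubobject (k • 𝟙 B) ≤ B' := by
  refine image_le _ ?_
  obtain ⟨c, rfl⟩ := h
  rw [Preadditive.nsmul_comp, Category.id_comp, mul_comm, mul_smul, ← comp_smul_id (cokernel.π B'.arrow) M, hM,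
    comp_zero, smul_zero]

lemma kills_image (m : ℕ) : m • 𝟙 (cokernel (imageSubobject (m • 𝟙 B)).arrow) = 0 := by
  rw [← cancel_epi (cokernel.π (imageSubobject (m • 𝟙 B)).arrow), comp_zero, comp_smul_id]
  rw [show m • cokernel.π (imageSubobject (m • 𝟙 B)).arrow = (m • 𝟙 B) ≫ cokernel.π (imageSubobject (m • 𝟙 B)).arrow by
      rw [Preadditive.nsmul_comp, Category.id_comp]]
  conv_lhs => arg 1; rw [← imageSubobject_arrow_comp (m • 𝟙 B)]
  rw [Category.assoc, cokernel.condition, comp_zero]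

lemma epi_of_image_eq {m k : ℕ}
    (h : imageSubobject ((k * m) • 𝟙 B) = imageSubobject (m • 𝟙 B)) :
    Epi (k • 𝟙 ((imageSubobject (m • 𝟙 B) : Subobject B) : V)) := by
  have e : factorThruImageSubobject (m • 𝟙 B) ≫ (k • 𝟙 _) =
      factorThruImageSubobject ((k * m) • 𝟙 B) ≫ Subobject.ofLE _ _ h.le := by
    rw [← cancel_mono (imageSubobject (m • 𝟙 B)).arrow, Category.assoc, Category.assoc, Subobject.ofLE_arrow,
      imageSubobject_arrow_comp, Preadditive.nsmul_comp, Category.id_comp, Preadditive.comp_nsmul,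
      imageSubobject_arrow_comp, mul_smul]
  haveI : IsIso (Subobject.ofLE _ _ h.le) := ⟨Subobject.ofLE _ _ h.ge, by simp, by simp⟩
  haveI : Epi (factorThruImageSubobject ((k * m) • 𝟙 B) ≫ Subobject.ofLE _ _ h.le) := epi_comp _ _
  exact epi_of_epi_fac e

theorem ml_of_div {B' : Subobject B} (hdiv : ∀ k : ℕ, 0 < k → Epi (k • 𝟙 (B' : V))) {M : ℕ} (hM0 : 0 < M)
    (hM : M • 𝟙 (cokernel B'.arrow) = 0) (n : ℕ) (hn : 0 < n) :
    ∃ m : ℕ, 0 < m ∧ n ∣ m ∧ ∀ m' : ℕ, 0 < m' → m ∣ m' →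
      imageSubobject ((m' / n) • 𝟙 B) = imageSubobject ((m / n) • 𝟙 B) := by
  have he : ∀ k : ℕ, 0 < k → M ∣ k → imageSubobject (k • 𝟙 B) = B' := fun k hk hdvd => by
    haveI := hdiv k hk
    exact le_antisymm (image_le_of_kills hM hdvd) (le_image_of_div k)
  refine ⟨n * M, Nat.mul_pos hn hM0, dvd_mul_right n M, fun m' hm' hdvd => ?_⟩
  obtain ⟨c, rfl⟩ := hdvd
  have hc : 0 < c := Nat.pos_of_mul_pos_left hm'
  rw [mul_assoc, Nat.mul_div_cancel_left _ hn, Nat.mul_div_cancel_left _ hn,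
    he _ (Nat.mul_pos hM0 hc) (dvd_mul_right M c), he M hM0 dvd_rfl]

theorem div_of_ml
    (h : ∀ n : ℕ, 0 < n → ∃ m : ℕ, 0 < m ∧ n ∣ m ∧ ∀ m' : ℕ, 0 < m' → m ∣ m' →
      imageSubobject ((m' / n) • 𝟙 B) = imageSubobject ((m / n) • 𝟙 B)) :
    ∃ m : ℕ, 0 < m ∧ ∀ k : ℕ, 0 < k → Epi (k • 𝟙 ((imageSubobject (m • 𝟙 B) : Subobject B) : V)) := by
  obtain ⟨m, hm, -, hst⟩ := h 1 one_pos
  refine ⟨m, hm, fun k hk => epi_of_image_eq ?_⟩
  simpa using hst (k * m) (Nat.mul_pos hk hm) (dvd_mul_left m k)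

end General

variable {C : Type v} [SmallCategory C] [Abelian C]

local notation "Y" => (Ind.yoneda (C := C))

variable {A : Ind C}

lemma factors_sub (D : Subobject A) {X : C} {a b : (Y).obj X ⟶ A} (ha : D.Factors a) (hb : D.Factors b) :
    D.Factors (a - b) := by
  have h1 := Subobject.factors_comp_arrow (P := D) (D.factorThru a ha - D.factorThru b hb)
  rwa [Preadditive.sub_comp, Subobject.factorThru_arrow, Subobject.factorThru_arrow] at h1

lemma factors_smul (D : Subobject A) (c : ℕ) {X : C} {a : (Y).obj X ⟶ A} (ha : D.Factors a) :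
    D.Factors (c • a) := by
  have h1 := Subobject.factors_comp_arrow (P := D) (c • D.factorThru a ha)
  rwa [Preadditive.nsmul_comp, Subobject.factorThru_arrow] at h1

lemma refine_of_epi_sub {D : Subobject A} {k : ℕ} (hk : Epi (k • 𝟙 (D : Ind C))) {X : C} {a : (Y).obj X ⟶ A}
    (ha : D.Factors a) : ∃ (X' : C) (π : X' ⟶ X) (_ : Epi π) (b : (Y).obj X' ⟶ A),
      D.Factors b ∧ (Y).map π ≫ a = k • b := by
  obtain ⟨X', π, hπ, b, hb⟩ := exists_refine (k • 𝟙 (D : Ind C)) (D.factorThru a ha)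
  refine ⟨X', π, hπ, b ≫ D.arrow, Subobject.factors_comp_arrow _, ?_⟩
  rw [← Subobject.factorThru_arrow D a ha, ← Category.assoc, hb, comp_smul_id, Preadditive.nsmul_comp]

lemma epi_sub_of_refine {D : Subobject A} {k : ℕ}
    (h : ∀ (X : C) (a : (Y).obj X ⟶ A), D.Factors a → ∃ (X' : C) (π : X' ⟶ X) (_ : Epi π)
      (b : (Y).obj X' ⟶ A), D.Factors b ∧ (Y).map π ≫ a = k • b) : Epi (k • 𝟙 (D : Ind C)) :=
  epi_of_refine _ fun X x => by
    obtain ⟨X', π, hπ, b, hb, e⟩ := h X (x ≫ D.arrow) (Subobject.factors_comp_arrow x)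
    refine ⟨X', π, hπ, D.factorThru b hb, ?_⟩
    rw [← cancel_mono D.arrow, comp_smul_id, Preadditive.nsmul_comp, Subobject.factorThru_arrow,
      Category.assoc, e]

lemma factors_image_smul {k : ℕ} {X X' : C} (π : X' ⟶ X) [Epi π] {a : (Y).obj X ⟶ A} (b : (Y).obj X' ⟶ A)
    (h : (Y).map π ≫ a = k • b) : (imageSubobject (k • 𝟙 A)).Factors a :=
  (factors_image_iff _ _).2 ⟨X', π, inferInstance, b, by rw [comp_smul_id, h]⟩

lemma exists_of_factors_image_smul {k : ℕ} {X : C} {a : (Y).obj X ⟶ A}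
    (h : (imageSubobject (k • 𝟙 A)).Factors a) : ∃ (X' : C) (π : X' ⟶ X) (_ : Epi π) (b : (Y).obj X' ⟶ A),
      (Y).map π ≫ a = k • b := by
  obtain ⟨X', π, hπ, b, hb⟩ := (factors_image_iff _ _).1 h
  exact ⟨X', π, hπ, b, by rw [hb, comp_smul_id]⟩

/-- The `p`-power images stabilise. -/
theorem exists_pow_stab (hart : ∀ X : C, IsArtinianObject X) (htor : Tors C) (hA : Cof A) {p : ℕ}
    (hp : p.Prime) :
    ∃ N, ∀ (X : C) (a : (Y).obj X ⟶ A), ∃ (X' : C) (π : X' ⟶ X) (_ : Epi π) (b : (Y).obj X' ⟶ A),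
      p ^ N • ((Y).map π ≫ a) = p ^ (N + 1) • b := by
  obtain ⟨m₀, hm₀, hdec⟩ := exists_decomp hart htor hA hp.pos
  obtain ⟨v, u, hu, rfl⟩ := Nat.exists_eq_pow_mul_and_not_dvd hm₀.ne' p hp.ne_one
  refine ⟨v, fun X a => ?_⟩
  obtain ⟨X', π, hπ, a₀, b, ha₀, hab⟩ := hdec X a
  obtain ⟨s, t, hst⟩ := Nat.Coprime.isCoprime ((hp.coprime_iff_not_dvd.2 hu).pow_left (v + 1)).symm
  have h1 : u • (p ^ v • a₀) = 0 := by rw [smul_smul, mul_comm, ha₀]
  refine ⟨X', π, hπ, t • (p ^ v • a₀) + b, ?_⟩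
  rw [hab, smul_add, smul_add, smul_smul (p ^ v) p b, ← pow_succ]
  congr 1
  calc p ^ v • a₀ = (s * (u : ℤ) + t * ((p ^ (v + 1) : ℕ) : ℤ)) • (p ^ v • a₀) := by rw [hst, one_smul]
    _ = p ^ (v + 1) • t • p ^ v • a₀ := by
      rw [add_smul, mul_smul, mul_smul, natCast_zsmul, natCast_zsmul, h1, smul_zero, zero_add,
        smul_comm t (p ^ (v + 1))]

lemma image_pow_eq {p N : ℕ}
    (h : ∀ (X : C) (a : (Y).obj X ⟶ A), ∃ (X' : C) (π : X' ⟶ X) (_ : Epi π) (b : (Y).obj X' ⟶ A),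
      p ^ N • ((Y).map π ≫ a) = p ^ (N + 1) • b) (n : ℕ) (hn : N ≤ n) :
    imageSubobject ((p ^ n) • 𝟙 A) = imageSubobject ((p ^ N) • 𝟙 A) := by
  induction n, hn using Nat.le_induction with
  | base => rfl
  | succ n hn ih =>
    refine le_antisymm (le_trans (le_of_factors fun X a ha => ?_) ih.le) (ih.ge.trans (le_of_factors fun X a ha => ?_))
    · obtain ⟨X', π, hπ, b, hb⟩ := exists_of_factors_image_smul ha
      exact factors_image_smul π (p • b) (by rw [hb, smul_smul, ← pow_succ])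
    · obtain ⟨X', π, hπ, b, hb⟩ := exists_of_factors_image_smul ha
      obtain ⟨X'', π', hπ', c, hc⟩ := h X' b
      refine factors_image_smul (π' ≫ π) c ?_
      obtain ⟨d, rfl⟩ := Nat.exists_eq_add_of_le hn
      rw [Functor.map_comp, Category.assoc, hb, Preadditive.comp_nsmul, add_comm N d, pow_add, mul_smul, hc,
        smul_smul, ← pow_add, show d + (N + 1) = d + N + 1 by omega]

lemma epi_p_image {p N : ℕ}
    (hN : ∀ n : ℕ, N ≤ n → imageSubobject ((p ^ n) • 𝟙 A) = imageSubobject ((p ^ N) • 𝟙 A)) :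
    Epi (p • 𝟙 ((imageSubobject ((p ^ N) • 𝟙 A) : Subobject A) : Ind C)) := by
  refine epi_of_image_eq ?_
  rw [← pow_succ']
  exact hN (N + 1) (Nat.le_succ N)

lemma epi_pow {D : Ind C} {p : ℕ} (h : Epi (p • 𝟙 D)) (j : ℕ) : Epi ((p ^ j) • 𝟙 D) := by
  induction j with
  | zero => rw [pow_zero, one_smul]; infer_instance
  | succ j ih =>
    haveI := h; haveI := ih
    have e : (p ^ (j + 1)) • 𝟙 D = (p • 𝟙 D) ≫ ((p ^ j) • 𝟙 D) := by
      rw [comp_smul_id, smul_smul, ← pow_succ]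
    rw [e]; exact epi_comp _ _

/-- Torsion of a subobject, representable. -/
lemma ess_image_torMap {D : Subobject A} (hD : Cof (D : Ind C)) (hA : Cof A) {n : ℕ} (hn : 0 < n) :
    Ess ((imageSubobject (torMap D.arrow n n dvd_rfl) : Subobject (kernel (n • 𝟙 A))) : Ind C) :=
  ess_image (hD n hn) (hA n hn) _

lemma factors_image_torMap {D : Subobject A} {n : ℕ} {X : C} (a : (Y).obj X ⟶ kernel (n • 𝟙 A)) :
    (imageSubobject (torMap D.arrow n n dvd_rfl)).Factors a ↔ D.Factors (a ≫ kernel.ι (n • 𝟙 A)) := by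
  constructor
  · intro h
    obtain ⟨X', π, hπ, y, hy⟩ := (factors_image_iff _ _).1 h
    refine factors_of_refine D π ?_
    rw [← Category.assoc, hy, Category.assoc, torMap_ι, ← Category.assoc]
    exact Subobject.factors_comp_arrow _
  · intro h
    have h0 : n • D.factorThru _ h = 0 := by
      rw [← cancel_mono D.arrow, Preadditive.nsmul_comp, Subobject.factorThru_arrow, smul_of_comp, zero_comp]
    refine (factors_image_iff _ _).2 ⟨X, 𝟙 X, inferInstance, torLift n _ h0, ?_⟩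
    rw [← cancel_mono (kernel.ι (n • 𝟙 A))]
    simp

/-- The decreasing chains. -/
theorem chain_stab_of_cof (hart : ∀ X : C, IsArtinianObject X) {p : ℕ} (hp : p.Prime)
    (htor : ∀ X : C, ∃ n : ℕ, (p ^ n) • 𝟙 X = 0) (hA : Cof A) (S : ℕ → Subobject A) (hS : Antitone S)
    (hcof : ∀ m, Cof (S m : Ind C)) : ∃ N, ∀ m, N ≤ m → S m = S N := by
  have ht := tors_of_pow hp htor
  choose NS hNS using fun m => exists_pow_stab hart ht (hcof m) hp
  let g : ∀ m, (S m : Ind C) ⟶ A := fun m => (p ^ NS m) • (S m).arrow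
  let D : ℕ → Subobject A := fun m => imageSubobject (g m)
  have hDfac : ∀ {m X} {a : (Y).obj X ⟶ A}, (D m).Factors a ↔ ∃ (X' : C) (π : X' ⟶ X) (_ : Epi π)
      (b : (Y).obj X' ⟶ A), (S m).Factors b ∧ (Y).map π ≫ a = p ^ NS m • b := by
    intro m X a
    rw [factors_image_iff]
    constructor
    · rintro ⟨X', π, hπ, y, hy⟩
      exact ⟨X', π, hπ, y ≫ (S m).arrow, Subobject.factors_comp_arrow _, by
        rw [hy, Preadditive.comp_nsmul]⟩
    · rintro ⟨X', π, hπ, b, hb, e⟩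
      exact ⟨X', π, hπ, (S m).factorThru b hb, by rw [e, Preadditive.comp_nsmul, Subobject.factorThru_arrow]⟩
  have hDS : ∀ m, D m ≤ S m := fun m => le_of_factors fun X a ha => by
    obtain ⟨X', π, hπ, b, hb, e⟩ := hDfac.1 ha
    exact factors_of_refine _ π (e ▸ factors_smul _ _ hb)
  have hNS' : ∀ m n X (b : (Y).obj X ⟶ A), (S m).Factors b → ∃ (X' : C) (π : X' ⟶ X) (_ : Epi π)
      (c : (Y).obj X' ⟶ A), (S m).Factors c ∧ p ^ NS m • ((Y).map π ≫ b) = p ^ (NS m + n) • c := by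
    intro m n X b hb
    obtain ⟨X', π, hπ, y, hy⟩ := (factors_image_iff _ _).1
      (Subobject.factors_of_le _ (image_pow_eq (hNS m) (NS m + n) (Nat.le_add_right _ _)).ge
        ((factors_image_iff ((p ^ NS m) • 𝟙 (S m : Ind C)) ((p ^ NS m) • (S m).factorThru b hb)).2
          ⟨X, 𝟙 X, inferInstance, (S m).factorThru b hb, by simp [comp_smul_id]⟩))
    refine ⟨X', π, hπ, y ≫ (S m).arrow, Subobject.factors_comp_arrow _, ?_⟩
    have := hy =≫ (S m).arrow
    simpa [Preadditive.comp_nsmul, Preadditive.nsmul_comp] using this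
  have hDanti : Antitone D := fun i j hij => le_of_factors fun X a ha => by
    obtain ⟨X', π, hπ, b, hb, e⟩ := hDfac.1 ha
    obtain ⟨X'', π', hπ', c, hc, e'⟩ := hNS' j (NS i) X' b hb
    refine hDfac.2 ⟨X'', π' ≫ π, epi_comp _ _, p ^ NS j • c, factors_smul _ _ (Subobject.factors_of_le _ (hS hij) hc), ?_⟩
    rw [Functor.map_comp, Category.assoc, e, Preadditive.comp_nsmul, e', smul_smul, ← pow_add, add_comm]
  have hdiv : ∀ m X (a : (Y).obj X ⟶ A), (D m).Factors a → ∃ (X' : C) (π : X' ⟶ X) (_ : Epi π)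
      (b : (Y).obj X' ⟶ A), (D m).Factors b ∧ (Y).map π ≫ a = p • b := by
    intro m X a ha
    obtain ⟨X', π, hπ, b, hb, e⟩ := hDfac.1 ha
    obtain ⟨X'', π', hπ', c, hc, e'⟩ := hNS' m 1 X' b hb
    refine ⟨X'', π' ≫ π, epi_comp _ _, p ^ NS m • c,
      hDfac.2 ⟨X'', 𝟙 X'', inferInstance, c, hc, by simp⟩, ?_⟩
    rw [Functor.map_comp, Category.assoc, e, Preadditive.comp_nsmul, e', smul_smul, ← pow_succ']
  have hDcof : ∀ m, Cof (D m : Ind C) := fun m => cof_image hart ht (hcof m) hA _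
  obtain ⟨m₁, hm₁⟩ := chain_stab hart (hA p hp.pos) (fun m => imageSubobject (torMap (D m).arrow p p dvd_rfl))
    (fun i j hij => le_of_factors fun X a ha =>
      (factors_image_torMap a).2 (Subobject.factors_of_le _ (hDanti hij) ((factors_image_torMap a).1 ha)))
    (fun m => ess_image_torMap (hDcof m) hA hp.pos)
  have hDeq : ∀ m, m₁ ≤ m → D m₁ ≤ D m := by
    intro m hm
    have key : ∀ (j : ℕ) (X : C) (a : (Y).obj X ⟶ A), p ^ j • a = 0 → (D m₁).Factors a → (D m).Factors a := by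
      intro j
      induction j with
      | zero =>
        intro X a h0 _
        rw [pow_zero, one_smul] at h0
        rw [h0]
        exact Subobject.factors_zero
      | succ j ih =>
        intro X a h0 ha
        have hpa : (D m).Factors (p • a) :=
          ih X _ (by rw [smul_smul, ← pow_succ, h0]) (factors_smul _ _ ha)
        obtain ⟨X', π, hπ, b, hb, e⟩ := hdiv m X _ hpa
        have h1 : p • ((Y).map π ≫ a - b) = 0 := by
          rw [smul_sub, ← Preadditive.comp_nsmul, e, sub_self]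
        have h2 : (D m₁).Factors ((Y).map π ≫ a - b) :=
          factors_sub _ (Subobject.factors_of_factors_right _ ha) (Subobject.factors_of_le _ (hDanti hm) hb)
        have h3 := (factors_image_torMap (D := D m) (torLift p _ h1)).1 (by
          rw [hm₁ m hm]
          exact (factors_image_torMap _).2 (by rw [torLift_ι]; exact h2))
        rw [torLift_ι] at h3
        refine factors_of_refine _ π ?_
        have := Subobject.factors_add (P := D m) _ _ h3 hb
        rwa [sub_add_cancel] at this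
    refine le_of_factors fun X a ha => ?_
    obtain ⟨j, hj⟩ := exists_killed_prime htor a
    exact key j X a hj ha
  set N := NS m₁
  have hpN : 0 < p ^ N := pow_pos hp.pos N
  obtain ⟨m₂, hm₂⟩ := chain_stab hart (hA _ hpN)
    (fun m => imageSubobject (torMap (S m).arrow (p ^ N) (p ^ N) dvd_rfl))
    (fun i j hij => le_of_factors fun X a ha =>
      (factors_image_torMap a).2 (Subobject.factors_of_le _ (hS hij) ((factors_image_torMap a).1 ha)))
    (fun m => ess_image_torMap (hcof m) hA hpN)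
  refine ⟨max m₁ m₂, fun m hm => le_antisymm (hS hm) (le_of_factors fun X a ha => ?_)⟩
  have hm1 : m₁ ≤ m := (le_max_left _ _).trans hm
  have ha1 : (S m₁).Factors a := Subobject.factors_of_le _ (hS (le_max_left _ _)) ha
  obtain ⟨X', π, hπ, d, hd, e⟩ : ∃ (X' : C) (π : X' ⟶ X) (_ : Epi π) (d : (Y).obj X' ⟶ A),
      (D m₁).Factors d ∧ p ^ N • ((Y).map π ≫ a) = p ^ N • d := by
    obtain ⟨X', π, hπ, c, hc, e⟩ := hNS' m₁ N X a ha1
    exact ⟨X', π, hπ, p ^ N • c, hDfac.2 ⟨X', 𝟙 X', inferInstance, c, hc, by simp [N]⟩, by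
      rw [e, smul_smul, ← pow_add]⟩
  have hdm : (S m).Factors d := Subobject.factors_of_le _ ((hDeq m hm1).trans (hDS m)) hd
  have hdM : (S (max m₁ m₂)).Factors d := Subobject.factors_of_le _ (hS hm) hdm
  have h0 : p ^ N • ((Y).map π ≫ a - d) = 0 := by rw [smul_sub, e, sub_self]
  have h3 := (factors_image_torMap (D := S m) (torLift _ _ h0)).1 (by
    rw [hm₂ m ((le_max_right _ _).trans hm), ← hm₂ (max m₁ m₂) (le_max_right _ _)]
    exact (factors_image_torMap _).2 (by
      rw [torLift_ι]; exact factors_sub _ (Subobject.factors_of_factors_right _ ha) hdM))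
  rw [torLift_ι] at h3
  refine factors_of_refine _ π ?_
  have := Subobject.factors_add (P := S m) _ _ h3 hdm
  rwa [sub_add_cancel] at this

/-- The largest divisible subobject. -/
theorem exists_largest_div (hart : ∀ X : C, IsArtinianObject X) (htor : Tors C) (hA : Cof A) :
    ∃ D : Subobject A, (∀ k : ℕ, 0 < k → Epi (k • 𝟙 (D : Ind C))) ∧
      (∀ D' : Subobject A, (∀ k : ℕ, 0 < k → Epi (k • 𝟙 (D' : Ind C))) → D' ≤ D) ∧
      Cof (D : Ind C) ∧ Cof (cokernel D.arrow) := by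
  choose m₁ hm₁ hst using fun n : ℕ => exists_stab hart hA (n := n + 1) n.succ_pos
  let W : ℕ → Ind C := fun n =>
    ((imageSubobject (mulTor A (n + 1) (m₁ n)) : Subobject (kernel ((n + 1) • 𝟙 A))) : Ind C)
  let Wι : ∀ n, W n ⟶ A := fun n => (imageSubobject (mulTor A (n + 1) (m₁ n))).arrow ≫ kernel.ι _
  have hW : ∀ {n X} (w : (Y).obj X ⟶ W n) (k : ℕ), 0 < k →
      (imageSubobject (k • 𝟙 A)).Factors (w ≫ Wι n) := by
    intro n X w k hk
    obtain ⟨X', π, hπ, b, hb, e⟩ :=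
      exists_smul_of_factors (Subobject.factors_comp_arrow (P := imageSubobject (mulTor A (n + 1) (m₁ n))) w)
    obtain ⟨X'', π', hπ', y, -, hy⟩ := hst n X' b (m₁ n) k hk dvd_rfl (hm₁ n) hb
    refine factors_image_smul (π' ≫ π) y ?_
    rw [← hy, Functor.map_comp, Category.assoc, ← e]
    simp [Wι, W]
  let D : Subobject A := imageSubobject (Sigma.desc Wι)
  have hDle : ∀ k, 0 < k → D ≤ imageSubobject (k • 𝟙 A) := fun k hk => by
    refine image_le _ (Sigma.hom_ext _ _ fun n => hom_ext fun X w => ?_)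
    rw [comp_zero, comp_zero, Sigma.ι_desc_assoc, ← Category.assoc,
      ← Subobject.factorThru_arrow _ _ (hW w k hk), Category.assoc, cokernel.condition, comp_zero]
  have hinfD : ∀ {n X} (a : (Y).obj X ⟶ A), (n + 1) • a = 0 →
      (imageSubobject (m₁ n • 𝟙 A)).Factors a → D.Factors a := by
    intro n X a hna ha
    obtain ⟨X', π, hπ, b, hb⟩ := exists_of_factors_image_smul ha
    have hb0 : ((n + 1) * m₁ n) • b = 0 := by
      rw [mul_smul, ← hb, ← Preadditive.comp_nsmul, hna, comp_zero]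
    refine factors_of_refine D π ?_
    have h1 := factors_mulTor (n := n + 1) (m := m₁ n) b hb0
    have e : (Y).map π ≫ a = (Subobject.factorThru _ _ h1 ≫ Sigma.ι W n) ≫ Sigma.desc Wι := by
      rw [Category.assoc, Sigma.ι_desc, Subobject.factorThru_arrow_assoc, torLift_ι, hb]
    rw [e, ← imageSubobject_arrow_comp (Sigma.desc Wι), ← Category.assoc]
    exact Subobject.factors_comp_arrow _
  have hdivD : ∀ k : ℕ, 0 < k → Epi (k • 𝟙 (D : Ind C)) := fun k hk => by
    refine epi_sub_of_refine fun X a ha => ?_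
    obtain ⟨M, hM, hMa⟩ := exists_killed htor a
    obtain ⟨n, hn⟩ : ∃ n, n + 1 = M * k := ⟨M * k - 1, by have := Nat.mul_pos hM hk; omega⟩
    obtain ⟨X', π, hπ, c, hc⟩ := exists_of_factors_image_smul
      (Subobject.factors_of_le _ (hDle (m₁ n * k) (Nat.mul_pos (hm₁ n) hk)) ha)
    refine ⟨X', π, hπ, m₁ n • c, hinfD (n := n) _ ?_ (factors_image_smul (𝟙 X') c (by simp)), ?_⟩
    · rw [hn, smul_smul, mul_assoc, mul_smul, mul_comm k (m₁ n), ← hc, ← Preadditive.comp_nsmul, hMa, comp_zero]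
    · rw [hc, smul_smul, mul_comm]
  have hle : ∀ D' : Subobject A, (∀ k : ℕ, 0 < k → Epi (k • 𝟙 (D' : Ind C))) → D' ≤ D := fun D' hD' =>
    le_of_factors fun X a ha => by
      obtain ⟨M, hM, hMa⟩ := exists_killed htor a
      haveI := hD' (m₁ (M - 1)) (hm₁ _)
      exact hinfD (n := M - 1) a (by rwa [show M - 1 + 1 = M by omega])
        (Subobject.factors_of_le _ (le_image_of_div _) ha)
  have hcofD : Cof (D : Ind C) := by
    intro n hn
    obtain ⟨j, rfl⟩ : ∃ j, j + 1 = n := ⟨n - 1, by omega⟩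
    haveI := hdivD (m₁ j) (hm₁ j)
    have hEW : Ess (W j) := ess_image (hA _ (Nat.mul_pos hn (hm₁ j))) (hA _ hn) _
    haveI hmono : Mono (Wι j) := mono_comp _ _
    let t : W j ⟶ (D : Ind C) := Sigma.ι W j ≫ factorThruImageSubobject (Sigma.desc Wι)
    have ht : t ≫ D.arrow = Wι j := by
      simp only [t, D, Category.assoc, imageSubobject_arrow_comp, Sigma.ι_desc]
    have ht0 : (j + 1) • t = 0 := by
      rw [← cancel_mono D.arrow, Preadditive.nsmul_comp, ht, zero_comp]
      simp [Wι, W, ← Preadditive.comp_nsmul, smul_ι]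
    let T := torLift (j + 1) t ht0
    haveI : Mono T := by
      haveI : Mono (T ≫ (kernel.ι ((j + 1) • 𝟙 (D : Ind C)) ≫ D.arrow)) := by
        rw [torLift_ι_assoc, ht]; exact hmono
      exact mono_of_mono T (kernel.ι ((j + 1) • 𝟙 (D : Ind C)) ≫ D.arrow)
    haveI : Epi T := epi_of_refine _ fun X x => by
      set a := (x ≫ kernel.ι ((j + 1) • 𝟙 (D : Ind C))) ≫ D.arrow
      have hna : (j + 1) • a = 0 := by rw [← Preadditive.nsmul_comp, smul_of_comp, zero_comp]
      obtain ⟨X', π, hπ, b, hb⟩ := exists_of_factors_image_smul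
        (Subobject.factors_of_le _ (hDle (m₁ j) (hm₁ j)) (Subobject.factors_comp_arrow _ : D.Factors a))
      have hb0 : ((j + 1) * m₁ j) • b = 0 := by
        rw [mul_smul, ← hb, ← Preadditive.comp_nsmul, hna, comp_zero]
      have h1 := factors_mulTor (n := j + 1) (m := m₁ j) b hb0
      refine ⟨X', π, hπ, Subobject.factorThru _ _ h1, ?_⟩
      rw [← cancel_mono (kernel.ι ((j + 1) • 𝟙 (D : Ind C))), ← cancel_mono D.arrow]
      simp only [Category.assoc, T, torLift_ι_assoc, ht, Wι]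
      rw [Subobject.factorThru_arrow_assoc, torLift_ι]
      simpa [a] using hb
    haveI : IsIso T := isIso_of_mono_of_epi T
    exact hEW.of_iso (asIso T)
  exact ⟨D, hdivD, hle, hcofD, cof_cokernel hart htor hcofD hA D.arrow⟩

end Groth.Agent.IndCofH28
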